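import Groth.Agent.HypX.PlaneH
import Groth.Agent.Lib.CurveTensor
import Groth.Agent.Lib.CurveBundle
import Groth.Agent.CurveCohLib.Nonspecial
import Groth.Agent.Snapper.DimVanish
import Groth.Agent.H23.TopDim
import Groth.Agent.PnPic.Twist
import Groth.Agent.ExtShX.Divisor
import Groth.Agent.S10829
import Groth.Agent.S0845
import Groth.Agent.SheafHomX.Coherent
import Groth.Agent.PnCoh.Finite.SerreVanishing
import Groth.Agent.H23.PicMul

/-!
Cohomology of the twists of the structure sheaf of a hypersurface of projective space.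
-/

noncomputable section

set_option autoImplicit false
set_option linter.style.haveILetI false
set_option linter.unusedSectionVars false
set_option backward.isDefEq.respectTransparency false
set_option backward.isDefEq.respectTransparency.types false

universe u

open CategoryTheory CategoryTheory.Limits AlgebraicGeometry TopologicalSpace Opposite
open Groth.Agent.PnCoh.Finite (mapLin deltaLin)

namespace Groth.Agent.HypCohLib

variable {F : Type u} [Field F]

local notation3 "ℙ[" N "]" => CohB1.ProjSpace N F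
local notation3 "O[" N "," m "]" => Twist.twistProjSpace N F m

theorem finrank_h0 (N : ℕ) (hN : 1 ≤ N) (m : ℤ) :
    Module.finrank F (Coh.HH ℙ[N] O[N, m] 0) = Nat.choose (m + (N : ℤ)).toNat N := by
  rcases lt_or_ge m 0 with h | h
  · haveI := Groth.Agent.S0844.result F N m 0 (fun h' => by omega) (fun h' => by omega)
    rw [Module.finrank_zero_of_subsingleton, Nat.choose_eq_zero_of_lt (by omega)]
  · obtain ⟨j, rfl⟩ := Int.eq_ofNat_of_zero_le h
    obtain ⟨φ⟩ := Groth.Agent.S0843.result F N j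
    rw [φ.finrank_eq, (ComodLib.GradedAug.finrank_homogeneous (k := F) (N + 1) j).2,
      show N + 1 + j - 1 = j + N by omega, show ((j : ℤ) + (N : ℤ)).toNat = j + N by omega]
    exact Nat.choose_symm_add

theorem finrank_hN (N : ℕ) (hN : 1 ≤ N) (m : ℤ) :
    Module.finrank F (Coh.HH ℙ[N] O[N, m] N) = Nat.choose (-m - 1).toNat N := by
  rcases lt_or_ge (-((N : ℤ) + 1)) m with h | h
  · haveI := Groth.Agent.S0844.result F N m N (fun h' => by omega) (fun h' => by omega)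
    rw [Module.finrank_zero_of_subsingleton, Nat.choose_eq_zero_of_lt (by omega)]
  · obtain ⟨j, hj⟩ : ∃ j : ℕ, m = -((N : ℤ) + 1 + j) := ⟨(-((N : ℤ) + 1) - m).toNat, by omega⟩
    subst hj
    obtain ⟨φ⟩ := Groth.Agent.S0845.result F N j
    rw [φ.finrank_eq, (ComodLib.GradedAug.finrank_homogeneous (k := F) (N + 1) j).2,
      show N + 1 + j - 1 = j + N by omega, show (-(-((N : ℤ) + 1 + (j : ℤ))) - 1).toNat = j + N by omega]
    exact Nat.choose_symm_add

theorem subsingleton_mid (N : ℕ) (m : ℤ) (q : ℕ) (h0 : q ≠ 0) (hN : q ≠ N) :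
    Subsingleton (Coh.HH ℙ[N] O[N, m] q) :=
  Groth.Agent.S0844.result F N m q (fun h => h0 h.1) (fun h => hN h.1)

theorem isFinLocFree_twist (N : ℕ) (m : ℤ) : FlatMod.IsFinLocFree O[N, m] := fun y =>
  let ⟨W, hy, he⟩ := InvEnd.isFinLocFreeOfRank_one (PnPic.isInvertible_twistProjSpace N F m) y
  ⟨W, 1, hy, he⟩

theorem euler_twist_eq (N : ℕ) (hN : 1 ≤ N) (m : ℤ) :
    Curv2.euler F ℙ[N] O[N, m] =
      (Nat.choose (m + (N : ℤ)).toNat N : ℤ) + (-1) ^ N * (Nat.choose (-m - 1).toNat N : ℤ) := by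
  rw [CurveCohLib.euler_eq_sum (k := F) (N := N + 1) (fun i hi => subsingleton_mid N m i (by omega) (by omega)),
    Finset.sum_eq_add 0 N (by omega)]
  · rw [finrank_h0 N hN, finrank_hN N hN, pow_zero, one_mul]
  · intro c _ hc
    haveI := subsingleton_mid (F := F) N m c hc.1 hc.2
    simp [Module.finrank_zero_of_subsingleton]
  · simp
  · simp

/-- The twisted structure sequence. -/
theorem exists_seq (N : ℕ) (k : ℕ) (I : (ℙ[N]).IdealSheafData)
    (hI : Nonempty (ClSub.idealMod I ≅ O[N, (-(k : ℤ))])) (n : ℤ) :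
    ∃ S : ShortComplex (ℙ[N]).Modules, S.ShortExact ∧ Nonempty (S.X₁ ≅ O[N, n - (k : ℤ)]) ∧
      Nonempty (S.X₂ ≅ O[N, n]) ∧ Nonempty (S.X₃ ≅ CohB1.tensorMod (ClSub.quotMod I) O[N, n]) := by
  haveI : IsProper (ℙ[N] ↘ Spec (CommRingCat.of F)) := PnCoh.Chow.isProper_toSpec N F
  haveI := H23.PnChart.isIntegral_projSpace N F
  obtain ⟨e⟩ := hI
  obtain ⟨t⟩ := PnCoh.Finite.twist_tensor_iso (𝒜 := CohB1.polyGrading N F) (PnPic.crd N F) (PnPic.crd_mem N F)
    (PnPic.crd_cov N F) n (-(k : ℤ))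
  refine ⟨ShortComplex.mk _ _ _, CurveTensor.shortExact_tensor (isFinLocFree_twist N n) _ _ _
    (CurveCohLib.Nonspecial.ideal_shortExact I), ⟨?_⟩, ⟨KFlatLib.tensorUnitIso _⟩, ⟨ExtShX.tensorSwap _ _⟩⟩
  refine ((DCoh.tensorBi.obj O[N, n]).mapIso e) ≪≫ t ≪≫ eqToIso ?_
  rw [Int.sub_eq_add_neg]
  rfl

set_option maxHeartbeats 400000 in
theorem hypersurface (N : ℕ) (hN : 1 ≤ N) (k : ℕ) (hk : 1 ≤ k) (I : (ℙ[N]).IdealSheafData)
    (hI : Nonempty (ClSub.idealMod I ≅ O[N, (-(k : ℤ))])) (n : ℤ) :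
    (∀ p : ℕ, p ≠ 0 → p + 1 ≠ N →
      Subsingleton (Coh.HH ℙ[N] (CohB1.tensorMod (ClSub.quotMod I) O[N, n]) p)) ∧
    (∀ p : ℕ, Module.Finite F (Coh.HH ℙ[N] (CohB1.tensorMod (ClSub.quotMod I) O[N, n]) p)) ∧
    (2 ≤ N → (Module.finrank F (Coh.HH ℙ[N] (CohB1.tensorMod (ClSub.quotMod I) O[N, n]) 0) : ℤ) =
      Nat.choose (n + (N : ℤ)).toNat N - Nat.choose (n - (k : ℤ) + (N : ℤ)).toNat N) ∧
    Curv2.euler F ℙ[N] (CohB1.tensorMod (ClSub.quotMod I) O[N, n]) =
      Curv2.euler F ℙ[N] O[N, n] - Curv2.euler F ℙ[N] O[N, n - (k : ℤ)] := by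
  haveI : IsProper (ℙ[N] ↘ Spec (CommRingCat.of F)) := PnCoh.Chow.isProper_toSpec N F
  haveI := H23.PnChart.isIntegral_projSpace N F
  haveI := CurveCohLib.isNoetherian_of_proper (k := F) (X := ℙ[N])
  haveI : (ℙ[N]).IsSeparated := ⟨by
    rw [← terminal.comp_from (ℙ[N] ↘ Spec (CommRingCat.of F))]
    infer_instance⟩
  obtain ⟨S, hS, ⟨e₁⟩, ⟨e₂⟩, ⟨e₃⟩⟩ := exists_seq N k I hI n
  have hc₁ : Coh.IsCoh S.X₁ := SheafHomX.isCoh_of_iso e₁.symm
    (CurveDeg.isCoh_of_isInvertible (PnPic.isInvertible_twistProjSpace N F _))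
  have hc₂ : Coh.IsCoh S.X₂ := SheafHomX.isCoh_of_iso e₂.symm
    (CurveDeg.isCoh_of_isInvertible (PnPic.isInvertible_twistProjSpace N F _))
  have hc' : Coh.IsCoh ((DCoh.tensorBi.obj O[N, n]).obj (ClSub.quotMod I)) :=
    CurveTensor.isCoh_tensor (E := O[N, n]) (F := ClSub.quotMod I) (isFinLocFree_twist N n) (ParShLib.isCoh_quotMod I)
  have hc : Coh.IsCoh (CohB1.tensorMod (ClSub.quotMod I) O[N, n]) :=
    SheafHomX.isCoh_of_iso (ExtShX.tensorSwap O[N, n] (ClSub.quotMod I)) hc'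
  have hc₃ : Coh.IsCoh S.X₃ := SheafHomX.isCoh_of_iso e₃.symm hc
  have hrk : CurveBundle.rk S.X₃ = 0 := by
    have h₁ : CurveBundle.rk S.X₁ = 1 := CurveBundle.rk_eq
      (InvEnd.isFinLocFreeOfRank_one (H23.PicMul.isInvertible_of_iso e₁.symm (PnPic.isInvertible_twistProjSpace N F _)))
    have h₂ : CurveBundle.rk S.X₂ = 1 := CurveBundle.rk_eq
      (InvEnd.isFinLocFreeOfRank_one (H23.PicMul.isInvertible_of_iso e₂.symm (PnPic.isInvertible_twistProjSpace N F _)))
    have := CurveBundle.rk_add hS (CurveBundle.finite_stalk_of_coh hc₂ _)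
    omega
  have hdim : topologicalKrullDim ↥(CohB1.support S.X₃) < ((N : ℕ) : WithBot ℕ∞) := by
    have hd := Groth.Agent.S10829.result F N
    rw [← hd]
    refine H23.TopDim.dim_lt_of_ssubset ?_ (QCoh.isClosed_support_of_isFT hc₃.1 hc₃.2)
      (CurveBundle.support_ne_univ_of_rk hc₃ hrk)
    rw [hd]
    exact WithBot.coe_injective.ne (ENat.coe_ne_top N)
  have hhigh : ∀ p, N ≤ p → Subsingleton (Coh.HH ℙ[N] S.X₃ p) := fun p hp =>
    Snapper.subsingleton_HH_of_dim_lt N ⟨_, QCoh.isClosed_support_of_isFT hc₃.1 hc₃.2⟩ hdim _ hc₃.1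
      (fun x hx => hx) p hp
  have hA : ∀ p, p ≠ 0 → p ≠ N → Subsingleton (Coh.HH ℙ[N] S.X₁ p) := fun p h0 hp =>
    haveI := subsingleton_mid (F := F) N (n - (k : ℤ)) p h0 hp
    (S2926.hhIso F e₁ p).toEquiv.subsingleton
  have hB : ∀ p, p ≠ 0 → p ≠ N → Subsingleton (Coh.HH ℙ[N] S.X₂ p) := fun p h0 hp =>
    haveI := subsingleton_mid (F := F) N n p h0 hp
    (S2926.hhIso F e₂ p).toEquiv.subsingleton
  refine ⟨fun p h0 hp => ?_, fun p => CurveCohLib.finite_HH hc p, fun h2 => ?_, ?_⟩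
  · haveI : Subsingleton (Coh.HH ℙ[N] S.X₃ p) := by
      rcases lt_or_ge p N with h | h
      · exact PnCoh.Finite.subsingleton_HH_X₃ hS p (hB p h0 (by omega)) (hA (p + 1) (by omega) hp)
      · exact hhigh p h
    exact (S2926.hhIso F e₃ p).symm.toEquiv.subsingleton
  · haveI := CurveCohLib.finite_HH (k := F) hc₂ 0
    have hsurj : Function.Surjective (mapLin F S.g 0) := fun x =>
      PnCoh.Finite.exists_of_deltaLin_eq_zero F hS 0 ((hA 1 one_ne_zero (by omega)).elim _ _)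
    have h := (mapLin F S.g 0).finrank_range_add_finrank_ker
    rw [LinearMap.range_eq_top.2 hsurj, finrank_top, CurveCohLib.ker_mapLin_g F hS 0,
      LinearMap.finrank_range_of_inj (CurveCohLib.mapLin_f_zero_injective F hS),
      (S2926.hhIso F e₁ 0).finrank_eq, (S2926.hhIso F e₂ 0).finrank_eq,
      (S2926.hhIso F e₃ 0).finrank_eq, finrank_h0 N hN, finrank_h0 N hN] at h
    omega
  · have h := CurveCohLib.euler_additive (k := F) hS hc₁ hc₂ hc₃
    rw [Euler.euler_congr F e₁, Euler.euler_congr F e₂, Euler.euler_congr F e₃] at h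
    omega

end Groth.Agent.HypCohLib
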